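import Mathlib.Algebra.Homology.HomologicalComplexAbelian
import Mathlib.Algebra.Homology.ShortComplex.Exact
import Mathlib.Algebra.Homology.ShortComplex.ShortExact
import Mathlib.Algebra.Homology.Additive
import Mathlib.Algebra.Homology.HomologySequenceLemmas

/-!
# Splicing short exact sequences into an exact cochain complex

`exists_complex`: short exact sequences `0 → Q n → E n → Q (n+1) → 0` for all `n` give an exact cochain complex
`Q 0 → E 0 → E 1 → ⋯`.
-/

set_option autoImplicit false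

open CategoryTheory CategoryTheory.Limits

namespace K279.Splice

universe v w

variable {C : Type w} [Category.{v} C] [Abelian C]

theorem exact_mono {A B D D' : C} (f : A ⟶ B) (g : B ⟶ D) (m : D ⟶ D') [Mono m]
    (h : f ≫ g = 0) (h1 : f ≫ (g ≫ m) = 0) (hex : (ShortComplex.mk f g h).Exact) :
    (ShortComplex.mk f (g ≫ m) h1).Exact := by
  let ψ : ShortComplex.mk f g h ⟶ ShortComplex.mk f (g ≫ m) h1 :=
    { τ₁ := 𝟙 _, τ₂ := 𝟙 _, τ₃ := m }
  have : Mono ψ.τ₃ := inferInstanceAs (Mono m)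
  have : Epi ψ.τ₁ := inferInstanceAs (Epi (𝟙 _))
  have : IsIso ψ.τ₂ := inferInstanceAs (IsIso (𝟙 _))
  exact (ShortComplex.exact_iff_of_epi_of_isIso_of_mono ψ).1 hex

theorem exact_comp {A' A B D D' : C} (e : A' ⟶ A) (f : A ⟶ B) (g : B ⟶ D) (m : D ⟶ D') [Epi e] [Mono m]
    (h : f ≫ g = 0) (h' : (e ≫ f) ≫ (g ≫ m) = 0) (hex : (ShortComplex.mk f g h).Exact) :
    (ShortComplex.mk (e ≫ f) (g ≫ m) h').Exact := by
  have h1 : f ≫ (g ≫ m) = 0 := by rw [← Category.assoc, h, zero_comp]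
  let φ : ShortComplex.mk (e ≫ f) (g ≫ m) h' ⟶ ShortComplex.mk f (g ≫ m) h1 :=
    { τ₁ := e, τ₂ := 𝟙 _, τ₃ := 𝟙 _ }
  have : Epi φ.τ₁ := inferInstanceAs (Epi e)
  have : IsIso φ.τ₂ := inferInstanceAs (IsIso (𝟙 _))
  have : Mono φ.τ₃ := inferInstanceAs (Mono (𝟙 _))
  exact (ShortComplex.exact_iff_of_epi_of_isIso_of_mono φ).2 (exact_mono f g m h h1 hex)

variable (Q E : ℕ → C) (i : ∀ n, Q n ⟶ E n) (p : ∀ n, E n ⟶ Q (n + 1))

/-- The objects of the spliced complex. -/
def obj : ℕ → C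
  | 0 => Q 0
  | (n + 1) => E n

/-- The differentials of the spliced complex. -/
def diff : ∀ n, obj Q E n ⟶ obj Q E (n + 1)
  | 0 => i 0
  | (n + 1) => p n ≫ i (n + 1)

theorem diff_comp (w : ∀ n, i n ≫ p n = 0) (n : ℕ) : diff Q E i p n ≫ diff Q E i p (n + 1) = 0 := by
  cases n with
  | zero =>
    show i 0 ≫ (p 0 ≫ i 1) = 0
    rw [← Category.assoc, w, zero_comp]
  | succ n =>
    show (p n ≫ i (n + 1)) ≫ (p (n + 1) ≫ i (n + 2)) = 0
    rw [Category.assoc, ← Category.assoc (i (n + 1)), w, zero_comp, comp_zero]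

/-- The spliced complex. -/
def cx (w : ∀ n, i n ≫ p n = 0) : CochainComplex C ℕ :=
  CochainComplex.of (obj Q E) (diff Q E i p) (diff_comp Q E i p w)

theorem cx_d (w : ∀ n, i n ≫ p n = 0) (n : ℕ) : (cx Q E i p w).d n (n + 1) = diff Q E i p n :=
  CochainComplex.of_d _ _ _

theorem acyclic (w : ∀ n, i n ≫ p n = 0) (h : ∀ n, (ShortComplex.mk (i n) (p n) (w n)).ShortExact) :
    (cx Q E i p w).Acyclic := by
  intro n
  cases n with
  | zero =>
    rw [HomologicalComplex.exactAt_iff' _ 0 0 1 (by simp) (by simp)]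
    have h0 : (cx Q E i p w).d 0 0 = 0 := HomologicalComplex.shape _ _ _ (by simp)
    rw [ShortComplex.exact_iff_mono _ h0]
    show Mono ((cx Q E i p w).d 0 1)
    rw [cx_d]
    exact (h 0).mono_f
  | succ n =>
    rw [HomologicalComplex.exactAt_iff' _ n (n + 1) (n + 2) (by simp) (by simp)]
    have : Mono (i (n + 1)) := (h (n + 1)).mono_f
    have hd := diff_comp Q E i p w n
    have key : (ShortComplex.mk (diff Q E i p n) (diff Q E i p (n + 1)) hd).Exact := by
      cases n with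
      | zero => exact exact_mono (i 0) (p 0) (i 1) (w 0) hd (h 0).exact
      | succ n =>
        have : Epi (p n) := (h n).epi_g
        exact exact_comp (p n) (i (n + 1)) (p (n + 1)) (i (n + 2)) (w (n + 1)) hd (h (n + 1)).exact
    let e : (cx Q E i p w).sc' n (n + 1) (n + 2) ≅ ShortComplex.mk (diff Q E i p n) (diff Q E i p (n + 1)) hd :=
      ShortComplex.isoMk (Iso.refl _) (Iso.refl _) (Iso.refl _)
        (by
          show 𝟙 _ ≫ diff Q E i p n = (cx Q E i p w).d n (n + 1) ≫ 𝟙 _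
          rw [cx_d]
          exact (Category.id_comp _).trans (Category.comp_id _).symm)
        (by
          show 𝟙 _ ≫ diff Q E i p (n + 1) = (cx Q E i p w).d (n + 1) (n + 1 + 1) ≫ 𝟙 _
          rw [cx_d]
          exact (Category.id_comp _).trans (Category.comp_id _).symm)
    exact (ShortComplex.exact_iff_of_iso e).2 key

theorem exists_complex {C : Type*} [Category C] [Abelian C] (Q E : ℕ → C) (i : ∀ n, Q n ⟶ E n)
    (p : ∀ n, E n ⟶ Q (n + 1)) (w : ∀ n, i n ≫ p n = 0)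
    (h : ∀ n, (ShortComplex.mk (i n) (p n) (w n)).ShortExact) :
    ∃ (K : CochainComplex C ℕ) (_ : K.X 0 ≅ Q 0) (_ : ∀ n, Nonempty (K.X (n + 1) ≅ E n)), K.Acyclic :=
  ⟨cx Q E i p w, Iso.refl _, fun _ => ⟨Iso.refl _⟩, acyclic Q E i p w h⟩

end K279.Splice
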